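import Mathlib

/-!
Local lemmas for normalizations of one-dimensional rings under flat base change.
-/

set_option autoImplicit false
universe u

open IsLocalRing TensorProduct

namespace Groth.Agent.H06DeltaBC

/-- A Noetherian local ring whose maximal ideal is generated by a regular element is a DVR. -/
theorem isDVR_of_regular_generator (T : Type u) [CommRing T] [IsLocalRing T] [IsNoetherianRing T]
    (a : T) (ha : maximalIdeal T = Ideal.span {a}) (hreg : IsSMulRegular T a) :
    ∃ _ : IsDomain T, IsDiscreteValuationRing T := by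
  have hfac : ∀ x : T, x ≠ 0 → ∃ (k : ℕ) (u : T), IsUnit u ∧ x = u * a ^ k := by
    intro x hx
    by_contra hcon
    push Not at hcon
    have hall : ∀ k : ℕ, x ∈ maximalIdeal T ^ k := by
      intro k
      induction k with
      | zero => simp
      | succ k ih =>
        rw [ha, Ideal.span_singleton_pow, Ideal.mem_span_singleton'] at ih ⊢
        obtain ⟨u, hu⟩ := ih
        have hum : u ∈ maximalIdeal T := by
          rw [IsLocalRing.mem_maximalIdeal]
          exact fun h => hcon k u h hu.symm
        rw [ha, Ideal.mem_span_singleton'] at hum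
        obtain ⟨w, rfl⟩ := hum
        exact ⟨w, by rw [← hu]; ring⟩
    have h0 : x ∈ ⨅ k : ℕ, maximalIdeal T ^ k := Ideal.mem_iInf.mpr hall
    rw [Ideal.iInf_pow_eq_bot_of_isLocalRing _ (maximalIdeal.isMaximal T).ne_top] at h0
    exact hx h0
  haveI : NoZeroDivisors T := by
    refine ⟨fun {x y} hxy => ?_⟩
    by_contra hcon
    push Not at hcon
    obtain ⟨i, u, hu, rfl⟩ := hfac x hcon.1
    obtain ⟨j, v, hv, rfl⟩ := hfac y hcon.2
    have h1 : (u * v) * a ^ (i + j) = 0 := by rw [← hxy]; ring
    have h2 : a ^ (i + j) * 1 = a ^ (i + j) * 0 := by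
      rw [mul_one, mul_zero]
      exact ((hu.mul hv).mul_right_eq_zero).mp h1
    exact one_ne_zero ((hreg.pow (i + j)) h2)
  haveI : IsDomain T := NoZeroDivisors.to_isDomain T
  have hnf : ¬ IsField T := by
    intro h
    have hmem : a ∈ maximalIdeal T := ha ▸ Ideal.mem_span_singleton_self a
    rw [IsLocalRing.isField_iff_maximalIdeal_eq.mp h, Ideal.mem_bot] at hmem
    exact one_ne_zero (hreg (by simp [hmem] : a • (1 : T) = a • 0))
  have hp : (maximalIdeal T).IsPrincipal := ⟨⟨a, ha⟩⟩
  exact ⟨inferInstance, ((IsDiscreteValuationRing.TFAE T hnf).out 4 0).mp hp⟩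

/-- A separable algebraic extension stays reduced after any field extension. -/
theorem isReduced_tensor_separable (κ F L : Type u) [Field κ] [Field F] [Algebra κ F] [Field L]
    [Algebra κ L] [Algebra.IsSeparable κ L] : IsReduced (F ⊗[κ] L) := by
  refine IsReduced.tensorProduct_of_flat_of_forall_fg fun S hS => ?_
  letI : Field S := (Subalgebra.isField_of_algebraic S).toField
  haveI : Algebra.IsSeparable κ S := Algebra.IsSeparable.of_algHom κ L S.val
  haveI : Algebra.FormallyUnramified κ S := Algebra.FormallyUnramified.of_isSeparable κ S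
  haveI : Algebra.FiniteType κ S := ⟨(Subalgebra.fg_top S).mpr hS⟩
  exact Algebra.FormallyUnramified.isReduced_of_field F (F ⊗[κ] S)

variable {A B A' : Type u} [CommRing A] [IsLocalRing A] [CommRing B] [IsLocalRing B] [Algebra A B]
  [IsLocalHom (algebraMap A B)] [CommRing A'] [Algebra A A']

/-- The fibre of `B ⊗ A'` over a maximal ideal of `A'` above the closed point is reduced. -/
theorem isReduced_tensor_residue (hmB : (maximalIdeal A).map (algebraMap A B) = maximalIdeal B)
    [Algebra.IsSeparable (ResidueField A) (ResidueField B)] (P : Ideal A') [P.IsMaximal]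
    (hP : P.comap (algebraMap A A') = maximalIdeal A) :
    IsReduced (B ⊗[A] (A' ⧸ P)) := by
  let F := A' ⧸ P
  letI : Field F := Ideal.Quotient.field P
  let fF : ResidueField A →+* F :=
    Ideal.Quotient.lift (maximalIdeal A) (algebraMap A F) fun a ha =>
      Ideal.Quotient.eq_zero_iff_mem.mpr (by rw [← hP] at ha; exact ha)
  letI : Algebra (ResidueField A) F := fF.toAlgebra
  haveI : IsScalarTower A (ResidueField A) F := IsScalarTower.of_algebraMap_eq fun _ => rfl
  haveI := isReduced_tensor_separable (ResidueField A) F (ResidueField B)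
  let φ : B ⊗[A] F →ₐ[A] F ⊗[ResidueField A] ResidueField B :=
    Algebra.TensorProduct.lift
      (((Algebra.TensorProduct.includeRight : ResidueField B →ₐ[ResidueField A] _).restrictScalars A).comp
        (IsScalarTower.toAlgHom A B (ResidueField B)))
      ((Algebra.TensorProduct.includeLeft : F →ₐ[ResidueField A] _).restrictScalars A)
      fun _ _ => Commute.all _ _
  have hkill : maximalIdeal B ≤
      RingHom.ker (Algebra.TensorProduct.includeLeftRingHom : B →+* B ⊗[A] F) := by
    rw [← hmB, Ideal.map_le_iff_le_comap]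
    intro a ha
    show algebraMap A B a ⊗ₜ[A] (1 : F) = 0
    rw [Algebra.algebraMap_eq_smul_one, TensorProduct.smul_tmul, ← Algebra.algebraMap_eq_smul_one,
      show algebraMap A F a = 0 from Ideal.Quotient.eq_zero_iff_mem.mpr (by rw [← hP] at ha; exact ha),
      TensorProduct.tmul_zero]
  let g : ResidueField B →+* B ⊗[A] F :=
    Ideal.Quotient.lift (maximalIdeal B) Algebra.TensorProduct.includeLeftRingHom fun b hb => hkill hb
  let h : F →+* B ⊗[A] F := Algebra.TensorProduct.includeRight.toRingHom
  letI : Algebra (ResidueField A) (B ⊗[A] F) := (h.comp fF).toAlgebra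
  let g' : ResidueField B →ₐ[ResidueField A] B ⊗[A] F :=
    { g with commutes' := fun c => by
               obtain ⟨a, rfl⟩ := residue_surjective c
               show algebraMap A B a ⊗ₜ[A] (1 : F) = (1 : B) ⊗ₜ[A] algebraMap A F a
               rw [Algebra.algebraMap_eq_smul_one, Algebra.algebraMap_eq_smul_one, TensorProduct.smul_tmul] }
  let h' : F →ₐ[ResidueField A] B ⊗[A] F := { h with commutes' := fun _ => rfl }
  let ψ : F ⊗[ResidueField A] ResidueField B →ₐ[ResidueField A] B ⊗[A] F :=
    Algebra.TensorProduct.lift h' g' fun _ _ => Commute.all _ _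
  have hψ : ∀ z, ψ (φ z) = z := by
    intro z
    induction z using TensorProduct.induction_on with
    | zero => simp
    | tmul b x =>
      rw [Algebra.TensorProduct.lift_tmul, map_mul]
      show ψ ((1 : F) ⊗ₜ residue B b) * ψ (x ⊗ₜ (1 : ResidueField B)) = _
      rw [Algebra.TensorProduct.lift_tmul, Algebra.TensorProduct.lift_tmul, map_one, map_one, one_mul,
        mul_one]
      show (b ⊗ₜ[A] (1 : F)) * ((1 : B) ⊗ₜ[A] x) = _
      simp
    | add x y hx hy => rw [map_add, map_add, hx, hy]
  exact isReduced_of_injective φ fun x y hxy => by rw [← hψ x, ← hψ y, hxy]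

end Groth.Agent.H06DeltaBC
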