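import Mathlib
import Groth.Prelude.Def_Curv2
import Groth.Agent.H06DeltaBC.Local
import Groth.Agent.H17.NormalizationDVR
import Groth.Agent.H25Len
import Groth.Agent.S7652

/-!
The delta invariant under flat unramified base change with separable residue extension.
-/

set_option autoImplicit false
set_option maxHeartbeats 1000000
universe u

open IsLocalRing TensorProduct nonZeroDivisors

namespace Groth.Agent.H06DeltaBC

section

variable (A : Type u) [CommRing A] [IsLocalRing A]

local notation "A'" => integralClosure A (FractionRing A)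

/-- The localisation of a normalization at a maximal ideal is a DVR. -/
theorem isDVR_localization [IsNoetherianRing A] [Module.Finite A A'] (hdim : ringKrullDim A = 1)
    (P : Ideal A') [P.IsMaximal]
    (hn : IsDomain (Localization.AtPrime P) ∧ IsIntegrallyClosed (Localization.AtPrime P))
    {t : A} (ht : t ∈ maximalIdeal A) (ht0 : t ∈ A⁰) :
    ∃ _ : IsDomain (Localization.AtPrime P), IsDiscreteValuationRing (Localization.AtPrime P) := by
  obtain ⟨_, _⟩ := hn
  haveI : IsNoetherianRing A' := isNoetherianRing_iff.mpr (isNoetherian_of_tower A inferInstance)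
  haveI : IsNoetherianRing (Localization.AtPrime P) :=
    IsLocalization.isNoetherianRing P.primeCompl _ inferInstance
  have hPm : P.comap (algebraMap A A') = maximalIdeal A :=
    IsLocalRing.eq_maximalIdeal (Ideal.isMaximal_comap_of_isIntegral_of_isMaximal P)
  have htreg : algebraMap A A' t ∈ (A')⁰ := by
    refine mem_nonZeroDivisors_iff_right.mpr fun x hx => Subtype.val_injective ?_
    have h1 : x.1 * algebraMap A (FractionRing A) t = 0 := congrArg Subtype.val hx
    exact ((IsLocalization.map_units (FractionRing A) (⟨t, ht0⟩ : A⁰)).mul_left_eq_zero).mp h1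
  have hne : algebraMap A' (Localization.AtPrime P) (algebraMap A A' t) ≠ 0 := by
    intro h0
    obtain ⟨⟨c, hc⟩, hct⟩ := (IsLocalization.map_eq_zero_iff P.primeCompl _ _).mp h0
    exact hc (by rw [show c = 0 from mem_nonZeroDivisors_iff_right.mp htreg c hct]; exact P.zero_mem)
  have hnf : ¬ IsField (Localization.AtPrime P) := by
    intro h
    have htP : algebraMap A A' t ∈ P := by rw [← hPm] at ht; exact ht
    have := (IsLocalization.AtPrime.to_map_mem_maximal_iff (Localization.AtPrime P) P _).mpr htP
    rw [IsLocalRing.isField_iff_maximalIdeal_eq.mp h, Ideal.mem_bot] at this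
    exact hne this
  refine ⟨inferInstance, ((IsDiscreteValuationRing.TFAE _ hnf).out 3 0).mp
    (show IsIntegrallyClosed (Localization.AtPrime P) ∧
        ∃! Q : Ideal (Localization.AtPrime P), Q ≠ ⊥ ∧ Q.IsPrime from ⟨inferInstance,
      maximalIdeal _, ⟨fun h => hnf (IsLocalRing.isField_iff_maximalIdeal_eq.mpr h), inferInstance⟩,
      fun q ⟨hq0, hq⟩ => ?_⟩)⟩
  by_contra hqm
  haveI : Ring.KrullDimLE 1 A := Ring.krullDimLE_iff.mpr hdim.le
  let q₁ := q.comap (algebraMap A' (Localization.AtPrime P))
  let q₀ : Ideal A' := RingHom.ker (algebraMap A' (Localization.AtPrime P))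
  haveI : q₀.IsPrime := RingHom.ker_isPrime _
  have h01 : q₀ < q₁ := by
    refine lt_of_le_of_ne (fun x hx => ?_) fun heq => hq0 ?_
    · show algebraMap A' _ x ∈ q
      rw [RingHom.mem_ker.mp hx]
      exact q.zero_mem
    · rw [← IsLocalization.map_comap P.primeCompl _ q]
      change Ideal.map _ q₁ = ⊥
      rw [← heq, Ideal.map_eq_bot_iff_le_ker]
  have h1P : q₁ < P := by
    have hle : q₁ ≤ P := fun x hx =>
      (IsLocalization.AtPrime.to_map_mem_maximal_iff (Localization.AtPrime P) P x).mp
        (le_maximalIdeal hq.ne_top hx)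
    refine lt_of_le_of_ne hle fun heq => hqm ?_
    rw [← IsLocalization.map_comap P.primeCompl _ q]
    change Ideal.map _ q₁ = _
    rw [heq, Localization.AtPrime.map_eq_maximalIdeal]
  have hA01 := Ideal.IsIntegral.comap_lt_comap (R := A) h01
  have hA1P := Ideal.IsIntegral.comap_lt_comap (R := A) h1P
  rcases Ring.krullDimLE_one_iff.mp ‹_› (q₁.comap (algebraMap A A')) inferInstance with h | h
  · exact hA01.not_ge (h.2 ⟨inferInstance, bot_le⟩ hA01.le)
  · exact hA1P.ne (h.eq_of_le (Ideal.IsPrime.comap _).ne_top hA1P.le)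

variable (B : Type u) [CommRing B] [IsLocalRing B] [Algebra A B] [IsLocalHom (algebraMap A B)]

/-- The localisations at maximal ideals of the base changed normalization are DVRs. -/
theorem isDVR_tensor [IsNoetherianRing A] [Module.Finite A A'] [IsNoetherianRing B] [Module.Flat A B]
    (hdim : ringKrullDim A = 1)
    (hn : ∀ p : PrimeSpectrum A', IsDomain (Localization.AtPrime p.asIdeal) ∧
      IsIntegrallyClosed (Localization.AtPrime p.asIdeal))
    {t : A} (ht : t ∈ maximalIdeal A) (ht0 : t ∈ A⁰)
    (hmB : (maximalIdeal A).map (algebraMap A B) = maximalIdeal B)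
    (hred : ∀ P : Ideal A', P.IsMaximal → IsReduced (B ⊗[A] (A' ⧸ P)))
    (n : Ideal (B ⊗[A] A')) [n.IsMaximal] :
    ∃ _ : IsDomain (Localization.AtPrime n), IsDiscreteValuationRing (Localization.AtPrime n) := by
  haveI : IsNoetherianRing (B ⊗[A] A') := isNoetherianRing_iff.mpr (isNoetherian_of_tower B inferInstance)
  haveI : IsNoetherianRing (Localization.AtPrime n) :=
    IsLocalization.isNoetherianRing n.primeCompl _ inferInstance
  let i : A' →+* B ⊗[A] A' := Algebra.TensorProduct.includeRight.toRingHom
  have hi : ∀ a, i (algebraMap A A' a) = algebraMap B (B ⊗[A] A') (algebraMap A B a) := fun a => by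
    show (1 : B) ⊗ₜ algebraMap A A' a = algebraMap A B a ⊗ₜ (1 : A')
    rw [Algebra.algebraMap_eq_smul_one, Algebra.algebraMap_eq_smul_one, TensorProduct.smul_tmul]
  let P := n.comap i
  haveI : P.IsPrime := Ideal.IsPrime.comap i
  have hnB : n.comap (algebraMap B (B ⊗[A] A')) = maximalIdeal B :=
    IsLocalRing.eq_maximalIdeal (Ideal.isMaximal_comap_of_isIntegral_of_isMaximal n)
  have hPm : P.comap (algebraMap A A') = maximalIdeal A := by
    ext a
    show i (algebraMap A A' a) ∈ n ↔ _
    rw [hi, ← Ideal.mem_comap, hnB]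
    rw [IsLocalRing.mem_maximalIdeal, IsLocalRing.mem_maximalIdeal]
    exact not_congr (isUnit_map_iff (algebraMap A B) a)
  haveI hPmax : P.IsMaximal :=
    Ideal.isMaximal_of_isIntegral_of_isMaximal_comap P (by rw [hPm]; infer_instance)
  obtain ⟨hd, hv⟩ := isDVR_localization A hdim P (hn ⟨P, inferInstance⟩) ht ht0
  obtain ⟨π, hπ⟩ : (maximalIdeal (Localization.AtPrime P)).IsPrincipal :=
    (@IsDiscreteValuationRing.toIsPrincipalIdealRing _ _ hd hv).principal _
  obtain ⟨a, s, rfl⟩ := IsLocalization.exists_mk'_eq P.primeCompl π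
  let ι := algebraMap (B ⊗[A] A') (Localization.AtPrime n)
  have hfib : ∀ x, x ∈ P → ι (i x) ∈ Ideal.span {ι (i a)} := by
    intro x hx
    have h1 := (IsLocalization.AtPrime.to_map_mem_maximal_iff (Localization.AtPrime P) P x).mpr hx
    rw [hπ, Submodule.mem_span_singleton] at h1
    obtain ⟨z, hz⟩ := h1
    obtain ⟨y, v, rfl⟩ := IsLocalization.exists_mk'_eq P.primeCompl z
    rw [smul_eq_mul, ← IsLocalization.mk'_mul, IsLocalization.mk'_eq_iff_eq_mul, ← map_mul] at hz
    obtain ⟨c, hc⟩ := (IsLocalization.eq_iff_exists P.primeCompl _).mp hz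
    have hu : IsUnit (ι (i (c * (v * s : P.primeCompl) : A'))) :=
      IsLocalization.map_units (M := n.primeCompl) _ ⟨_, fun h => (c * (v * s)).2 h⟩
    rw [← Ideal.unit_mul_mem_iff_mem _ hu, ← map_mul, ← map_mul, Ideal.mem_span_singleton']
    refine ⟨ι (i (↑c * y)), ?_⟩
    rw [← map_mul, ← map_mul]
    congr 2
    rw [mul_assoc, hc]
    push_cast
    ring
  haveI := hred P hPmax
  have hPn : P.map i ≤ n := Ideal.map_comap_le
  have hrad : (P.map i).IsRadical := by
    have hk : RingHom.ker (Algebra.TensorProduct.map (AlgHom.id A B) (Ideal.Quotient.mkₐ A P)) =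
        P.map i := by
      rw [Algebra.TensorProduct.lTensor_ker _ (Ideal.Quotient.mkₐ_surjective A P),
        show RingHom.ker (Ideal.Quotient.mkₐ A P) = P from Ideal.Quotient.mkₐ_ker A P]
      rfl
    intro x ⟨k, hx⟩
    rw [← hk, RingHom.mem_ker] at hx ⊢
    rw [map_pow] at hx
    exact IsReduced.eq_zero _ ⟨k, hx⟩
  have hmax : maximalIdeal (Localization.AtPrime n) = Ideal.span {ι (i a)} := by
    have hmap : (P.map i).map ι = Ideal.span {ι (i a)} := by
      refine le_antisymm ?_ ?_
      · rw [Ideal.map_map, Ideal.map_le_iff_le_comap]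
        exact fun x hx => hfib x hx
      · rw [Ideal.span_singleton_le_iff_mem]
        refine Ideal.mem_map_of_mem _ (Ideal.mem_map_of_mem _ ?_)
        have : IsLocalization.mk' (Localization.AtPrime P) a s ∈ maximalIdeal _ := by
          rw [hπ]; exact Submodule.mem_span_singleton_self _
        exact (IsLocalization.AtPrime.mk'_mem_maximal_iff (Localization.AtPrime P) P a s).mp this
    rw [← hmap]
    refine le_antisymm ?_ ?_
    · rw [← Localization.AtPrime.map_eq_maximalIdeal, Ideal.map_le_iff_le_comap]
      intro r hr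
      have hrad' : ι r ∈ ((P.map i).map ι).radical := by
        rw [Ideal.radical_eq_sInf, Ideal.mem_sInf]
        rintro Q ⟨hQ, hQp⟩
        haveI := hQp
        have hle : Q.comap ι ≤ n := fun y hy =>
          (IsLocalization.AtPrime.to_map_mem_maximal_iff (Localization.AtPrime n) n y).mp
            (le_maximalIdeal hQp.ne_top hy)
        have hQB : (Q.comap ι).comap (algebraMap B (B ⊗[A] A')) = maximalIdeal B := by
          refine le_antisymm (le_maximalIdeal (Ideal.IsPrime.comap _).ne_top) ?_
          rw [← hmB, Ideal.map_le_iff_le_comap]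
          intro b hb
          show ι (algebraMap B _ (algebraMap A B b)) ∈ Q
          rw [← hi]
          refine hQ (Ideal.mem_map_of_mem _ (Ideal.mem_map_of_mem _ ?_))
          rw [← hPm] at hb
          exact hb
        haveI : (Q.comap ι).IsMaximal :=
          Ideal.isMaximal_of_isIntegral_of_isMaximal_comap _ (by rw [hQB]; infer_instance)
        have := (‹(Q.comap ι).IsMaximal›.eq_of_le ‹n.IsMaximal›.ne_top hle)
        exact (this.symm ▸ hr : r ∈ Q.comap ι)
      obtain ⟨k, hk⟩ := hrad'
      rw [← map_pow] at hk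
      obtain ⟨c, hcn, hc⟩ := (IsLocalization.algebraMap_mem_map_algebraMap_iff n.primeCompl _ _ _).mp hk
      have h2 : c * r ∈ P.map i := hrad ⟨k + 1, by
        have : (c * r) ^ (k + 1) = c ^ k * r * (c * r ^ k) := by ring
        rw [this]
        exact Ideal.mul_mem_left _ _ hc⟩
      exact (IsLocalization.algebraMap_mem_map_algebraMap_iff n.primeCompl _ _ _).mpr ⟨c, hcn, h2⟩
    · exact (Ideal.map_mono hPn).trans (Localization.AtPrime.map_eq_maximalIdeal).le
  have hregt : IsSMulRegular (Localization.AtPrime n) (ι (i (algebraMap A A' t))) := by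
    have h1 : IsSMulRegular (B ⊗[A] A') t := by
      have hA' : IsSMulRegular A' t := fun x y hxy => Subtype.val_injective (by
        have h1 : t • x.1 = t • y.1 := congrArg Subtype.val hxy
        rw [Algebra.smul_def, Algebra.smul_def] at h1
        exact (IsLocalization.map_units (FractionRing A) (⟨t, ht0⟩ : A⁰)).mul_left_cancel h1)
      intro x y hxy
      have := Module.Flat.lTensor_preserves_injective_linearMap (M := B)
        (LinearMap.lsmul A A' t) hA'
      refine this ?_
      have he : LinearMap.lTensor B (LinearMap.lsmul A A' t) = t • LinearMap.id := by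
        ext b c
        simp [TensorProduct.smul_tmul, TensorProduct.tmul_smul]
      rw [he]
      exact hxy
    have h2 : IsSMulRegular (B ⊗[A] A') (i (algebraMap A A' t)) := by
      have key : ∀ z : B ⊗[A] A', i (algebraMap A A' t) • z = t • z := fun z => by
        induction z using TensorProduct.induction_on with
        | zero => simp
        | tmul b c =>
          show ((1 : B) ⊗ₜ[A] algebraMap A A' t) * (b ⊗ₜ c) = t • (b ⊗ₜ[A] c)
          rw [Algebra.TensorProduct.tmul_mul_tmul, one_mul, ← Algebra.smul_def, TensorProduct.tmul_smul]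
        | add x y hx hy => rw [smul_add, smul_add, hx, hy]
      intro x y hxy
      refine h1 ?_
      show t • x = t • y
      rw [← key, ← key]
      exact hxy
    intro x y hxy
    obtain ⟨x, s₁, rfl⟩ := IsLocalization.exists_mk'_eq n.primeCompl x
    obtain ⟨y, s₂, rfl⟩ := IsLocalization.exists_mk'_eq n.primeCompl y
    simp only [smul_eq_mul, ι, IsLocalization.mul_mk'_eq_mk'_of_mul] at hxy
    obtain ⟨c, hc⟩ := IsLocalization.eq.mp hxy
    refine IsLocalization.eq.mpr ⟨c, h2 ?_⟩
    simp only [smul_eq_mul]
    calc _ = ↑c * (↑s₂ * (i (algebraMap A A' t) * x)) := by ring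
      _ = _ := by rw [hc]; ring
  refine isDVR_of_regular_generator _ (ι (i a)) hmax ?_
  have ha : ι (i (algebraMap A A' t)) ∈ Ideal.span {ι (i a)} := hfib _ (by rw [← hPm] at ht; exact ht)
  obtain ⟨w, hw⟩ := Ideal.mem_span_singleton'.mp ha
  intro x y hxy
  refine hregt ?_
  simp only [smul_eq_mul] at hxy ⊢
  rw [← hw, mul_assoc, mul_assoc, hxy]

/-- The base changed normalization embeds into the total ring of fractions. -/
theorem exists_embedding [IsNoetherianRing A] [Module.Flat A B] :
    ∃ μ : (B ⊗[A] A') →ₐ[B] FractionRing B, Function.Injective μ := by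
  let R := B ⊗[A] A'
  let KB := FractionRing B
  have hreg : ∀ s : A⁰, algebraMap A B s ∈ B⁰ := by
    intro s
    refine mem_nonZeroDivisors_iff_right.mpr fun x hx => ?_
    have hA : IsSMulRegular A (s : A) := fun x y h => by
      have h1 : (x - y) * (s : A) = 0 := by
        simp only [smul_eq_mul] at h
        rw [sub_mul, mul_comm x, mul_comm y, h, sub_self]
      exact sub_eq_zero.mp (mem_nonZeroDivisors_iff_right.mp s.2 _ h1)
    have hB : IsSMulRegular B (algebraMap A B s) := IsSMulRegular.of_flat hA
    exact hB (show algebraMap A B s • x = algebraMap A B s • 0 by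
      rw [smul_zero, smul_eq_mul, mul_comm]
      exact hx)
  let g : FractionRing A →+* KB :=
    IsLocalization.lift (M := A⁰) (g := (algebraMap B KB).comp (algebraMap A B))
      fun s => IsLocalization.map_units KB (⟨_, hreg s⟩ : B⁰)
  have hg : ∀ x, g (algebraMap A _ x) = algebraMap A KB x := fun x => by
    rw [IsLocalization.lift_eq]
    exact (IsScalarTower.algebraMap_apply A B KB x).symm
  let gA' : A' →ₐ[A] KB :=
    { g.comp (algebraMap A' (FractionRing A)) with
      commutes' := fun x => hg x }
  let μ : R →ₐ[B] KB :=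
    Algebra.TensorProduct.lift (Algebra.ofId B KB) gA' fun _ _ => Commute.all _ _
  -- every element is `b ⊗ 1` up to a regular element of `A`
  have hden : ∀ z : R, ∃ (s : A⁰) (b : B), (s : A) • z = b ⊗ₜ (1 : A') := by
    intro z
    induction z using TensorProduct.induction_on with
    | zero => exact ⟨1, 0, by simp⟩
    | tmul b x =>
      obtain ⟨⟨c, s⟩, hc⟩ := IsLocalization.surj A⁰ (x.1)
      refine ⟨s, algebraMap A B c * b, ?_⟩
      have : (s : A) • x = algebraMap A A' c := Subtype.val_injective (by
        show (s : A) • x.1 = algebraMap A (FractionRing A) c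
        rw [Algebra.smul_def, mul_comm]
        exact hc)
      rw [← TensorProduct.tmul_smul, this, Algebra.algebraMap_eq_smul_one, ← TensorProduct.smul_tmul,
        Algebra.smul_def]
    | add x y hx hy =>
      obtain ⟨s₁, b₁, h₁⟩ := hx
      obtain ⟨s₂, b₂, h₂⟩ := hy
      refine ⟨s₁ * s₂, algebraMap A B s₂ * b₁ + algebraMap A B s₁ * b₂, ?_⟩
      rw [Submonoid.coe_mul, smul_add]
      rw [show ((s₁ : A) * s₂) • x = (s₂ : A) • ((s₁ : A) • x) by rw [smul_smul, mul_comm],
        show ((s₁ : A) * s₂) • y = (s₁ : A) • ((s₂ : A) • y) by rw [smul_smul],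
        h₁, h₂, TensorProduct.smul_tmul', TensorProduct.smul_tmul', Algebra.smul_def, Algebra.smul_def,
        TensorProduct.add_tmul]
  have hregR : ∀ s : A⁰, IsSMulRegular R (s : A) := by
    intro s
    have hA' : IsSMulRegular A' (s : A) := fun x y hxy => Subtype.val_injective (by
      have h1 : (s : A) • x.1 = (s : A) • y.1 := congrArg Subtype.val hxy
      rw [Algebra.smul_def, Algebra.smul_def] at h1
      exact (IsLocalization.map_units (FractionRing A) s).mul_left_cancel h1)
    intro x y hxy
    refine Module.Flat.lTensor_preserves_injective_linearMap (M := B) (LinearMap.lsmul A A' (s : A)) hA' ?_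
    have he : LinearMap.lTensor B (LinearMap.lsmul A A' (s : A)) = (s : A) • LinearMap.id := by
      ext b c
      simp [TensorProduct.smul_tmul, TensorProduct.tmul_smul]
    rw [he]
    exact hxy
  have hinj : Function.Injective μ := by
    refine (injective_iff_map_eq_zero _).mpr fun z hz => ?_
    obtain ⟨s, b, hb⟩ := hden z
    refine hregR s (show (s : A) • z = (s : A) • 0 from ?_)
    have h1 : μ (b ⊗ₜ (1 : A')) = 0 := by
      rw [← hb, show (s : A) • z = algebraMap A B s • z from (algebraMap_smul B (s : A) z).symm,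
        map_smul, hz, smul_zero]
    rw [Algebra.TensorProduct.lift_tmul, map_one, mul_one] at h1
    have : b = 0 := IsFractionRing.injective B KB (h1.trans (map_zero _).symm)
    rw [smul_zero, hb, this, TensorProduct.zero_tmul]
  exact ⟨μ, hinj⟩

/-- The length of the cokernel of `B → B ⊗ A'`. -/
theorem length_quot [Module.FaithfullyFlat A B]
    (hfl : IsFiniteLength B (B ⧸ ((maximalIdeal A).map (algebraMap A B) • (⊤ : Submodule B B)))) :
    Module.length B ((B ⊗[A] A') ⧸ LinearMap.range (Algebra.linearMap B (B ⊗[A] A'))) =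
      Curv2.deltaInv A *
        Module.length B (B ⧸ ((maximalIdeal A).map (algebraMap A B) • (⊤ : Submodule B B))) := by
  let R := B ⊗[A] A'
  let Q := A' ⧸ LinearMap.range (Algebra.linearMap A A')
  let π : R →ₗ[B] B ⊗[A] Q :=
    LinearMap.baseChange B (Submodule.mkQ (LinearMap.range (Algebra.linearMap A A')))
  have hπs : Function.Surjective π := LinearMap.lTensor_surjective B (Submodule.mkQ_surjective _)
  have hπk : LinearMap.ker π = LinearMap.range (Algebra.linearMap B R) := by
    have hex : Function.Exact (LinearMap.lTensor B (Algebra.linearMap A A'))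
        (LinearMap.lTensor B (Submodule.mkQ (LinearMap.range (Algebra.linearMap A A')))) :=
      lTensor_exact B (LinearMap.exact_map_mkQ_range _) (Submodule.mkQ_surjective _)
    ext z
    refine ((hex z).trans ⟨?_, ?_⟩ : π z = 0 ↔ _)
    · rintro ⟨w, rfl⟩
      induction w using TensorProduct.induction_on with
      | zero => simp
      | tmul b a =>
        refine ⟨algebraMap A B a * b, ?_⟩
        show (algebraMap A B a * b) ⊗ₜ (1 : A') = b ⊗ₜ algebraMap A A' a
        rw [Algebra.algebraMap_eq_smul_one (A := A'), ← TensorProduct.smul_tmul, Algebra.smul_def]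
      | add x y hx hy => rw [map_add]; exact add_mem hx hy
    · rintro ⟨b, rfl⟩
      exact ⟨b ⊗ₜ (1 : A), by simp <;> rfl⟩
  rw [← ((LinearMap.quotKerEquivOfSurjective π hπs).symm.trans
    (Submodule.quotEquivOfEq _ _ hπk)).length_eq]
  exact H25Len.length_baseChange (A := A) (B := B) Q B hfl

/-- The delta invariant does not drop under flat local base change. -/
theorem deltaInv_le [IsNoetherianRing A] [Module.FaithfullyFlat A B]
    (hfl : IsFiniteLength B (B ⧸ ((maximalIdeal A).map (algebraMap A B) • (⊤ : Submodule B B)))) :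
    Curv2.deltaInv A ≤ Curv2.deltaInv B := by
  obtain ⟨μ, hinj⟩ := exists_embedding A B
  let R := B ⊗[A] A'
  let f : R →ₗ[B] integralClosure B (FractionRing B) :=
    { toFun := fun z => ⟨μ z, (Algebra.IsIntegral.isIntegral (R := B) z).map μ⟩
      map_add' := fun x y => Subtype.ext (map_add μ x y)
      map_smul' := fun c x => Subtype.ext (map_smul μ c x) }
  have hf : LinearMap.range (Algebra.linearMap B R) =
      (LinearMap.range (Algebra.linearMap B (integralClosure B (FractionRing B)))).comap f := by
    ext z
    constructor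
    · rintro ⟨b, rfl⟩
      exact ⟨b, Subtype.ext (μ.commutes b).symm⟩
    · rintro ⟨b, hb⟩
      exact ⟨b, hinj ((μ.commutes b).trans (congrArg Subtype.val hb))⟩
  have hle := Module.length_le_of_injective (Submodule.mapQ _ _ f hf.le) (by
    rw [← LinearMap.ker_eq_bot, Submodule.ker_mapQ, ← hf, Submodule.mkQ_map_self])
  rw [length_quot A B hfl] at hle
  refine le_trans ?_ hle
  have hne : Nontrivial (B ⧸ ((maximalIdeal A).map (algebraMap A B) • (⊤ : Submodule B B))) := by
    rw [Submodule.Quotient.nontrivial_iff, smul_eq_mul, Ideal.mul_top]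
    intro h
    have := (IsLocalRing.local_hom_TFAE (algebraMap A B)).out 0 2 |>.mp ‹_›
    exact (maximalIdeal.isMaximal B).ne_top (top_le_iff.mp (h.symm.le.trans this))
  exact le_mul_of_one_le_right' (Order.one_le_iff_ne_zero.mpr (Module.length_pos_iff.mpr hne).ne')

/-- The image of the base changed normalization is the normalization. -/
theorem range_eq_integralClosure [IsReduced A] (hN : CAlg.IsNagata A) (hdim : ringKrullDim A = 1)
    [IsNoetherianRing B] [Module.Flat A B]
    (hmB : (maximalIdeal A).map (algebraMap A B) = maximalIdeal B)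
    (hred : ∀ P : Ideal A', P.IsMaximal → IsReduced (B ⊗[A] (A' ⧸ P)))
    (μ : (B ⊗[A] A') →ₐ[B] FractionRing B) (hinj : Function.Injective μ) :
    μ.range = integralClosure B (FractionRing B) := by
  haveI : IsNoetherianRing A := hN.1
  obtain ⟨hfin, hn, -⟩ := Groth.Agent.S7652.result A hN hdim
  haveI := hfin
  obtain ⟨t, htm, ht0⟩ := H17.NormalizationDVR.exists_regular A hdim
  let R := B ⊗[A] A'
  let KB := FractionRing B
  refine le_antisymm ?_ fun x hx => ?_
  · rintro _ ⟨z, rfl⟩
    exact (Algebra.IsIntegral.isIntegral (R := B) z).map μ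
  let I : Ideal R :=
    { carrier := {r | μ r * x ∈ μ.range}
      add_mem' := fun {a b} ha hb => by
        simp only [Set.mem_ofPred_eq, map_add, add_mul] at ha hb ⊢
        exact add_mem ha hb
      zero_mem' := ⟨0, by simp⟩
      smul_mem' := fun c {a} ha => by
        simp only [Set.mem_ofPred_eq, smul_eq_mul, map_mul, mul_assoc] at ha ⊢
        exact mul_mem ⟨c, rfl⟩ ha }
  by_cases hI : I = ⊤
  · have h1 : μ 1 * x ∈ μ.range := (hI ▸ Submodule.mem_top : (1 : R) ∈ I)
    rwa [map_one, one_mul] at h1
  exfalso
  obtain ⟨n, hn', hIn⟩ := I.exists_le_maximal hI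
  haveI := hn'
  obtain ⟨_, _⟩ := isDVR_tensor A B hdim hn htm ht0 hmB hred n
  let T := Localization.AtPrime n
  obtain ⟨⟨b, s⟩, hbs⟩ := IsLocalization.surj B⁰ x
  let j := (algebraMap R T).comp (algebraMap B R)
  have hsu : IsUnit (algebraMap B KB s) := IsLocalization.map_units KB s
  have hj0 : ∀ y : B⁰, j y ≠ 0 := fun y h0 => by
    obtain ⟨⟨c, hc⟩, hcs⟩ := (IsLocalization.map_eq_zero_iff n.primeCompl T _).mp h0
    have h1 := congrArg μ hcs
    rw [map_mul, map_zero] at h1
    have h1' : μ c * algebraMap B KB y = 0 :=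
      (congrArg (μ c * ·) (μ.commutes (y : B))).symm.trans h1
    have h2 : μ c = 0 := ((IsLocalization.map_units KB y).mul_left_eq_zero).mp h1'
    have h3 : c = 0 := hinj (h2.trans (map_zero μ).symm)
    exact hc (h3 ▸ n.zero_mem)
  obtain ⟨p, hp, hpx⟩ := hx
  let KT := FractionRing T
  let J : KB →+* KT := IsLocalization.lift (M := B⁰) (g := (algebraMap T KT).comp j) fun y => by
    refine Ne.isUnit fun h0 => ?_
    rw [RingHom.comp_apply, map_eq_zero_iff _ (IsFractionRing.injective T KT)] at h0
    exact hj0 y h0
  have hJ : ∀ y, J (algebraMap B KB y) = algebraMap T KT (j y) := fun y => IsLocalization.lift_eq _ y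
  have hint : _root_.IsIntegral T (J x) := by
    refine ⟨p.map j, hp.map j, ?_⟩
    rw [Polynomial.eval₂_map, show (algebraMap T KT).comp j = J.comp (algebraMap B KB) from
      RingHom.ext fun y => (hJ y).symm, ← Polynomial.hom_eval₂, hpx, map_zero]
  obtain ⟨y, hy⟩ := (IsIntegrallyClosed.isIntegral_iff).mp hint
  have hys : y * j s = j b := IsFractionRing.injective T KT (by
    rw [map_mul, hy, ← hJ, ← map_mul, hbs, hJ])
  obtain ⟨r, c, rfl⟩ := IsLocalization.exists_mk'_eq n.primeCompl y
  rw [mul_comm] at hys
  simp only [j, RingHom.comp_apply, IsLocalization.mul_mk'_eq_mk'_of_mul,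
    IsLocalization.mk'_eq_iff_eq_mul] at hys
  rw [← map_mul] at hys
  obtain ⟨d, hd⟩ := (IsLocalization.eq_iff_exists n.primeCompl T).mp hys
  refine (d * c).2 (hIn (?_ : ((d * c : n.primeCompl) : R) ∈ I))
  refine ⟨(d : R) * r, ?_⟩
  refine hsu.mul_right_cancel ?_
  have h1 := congrArg μ hd
  rw [map_mul, map_mul, map_mul, map_mul, show μ (algebraMap B R s) = algebraMap B KB s from μ.commutes _,
    show μ (algebraMap B R b) = algebraMap B KB b from μ.commutes _] at h1
  rw [Submonoid.coe_mul, map_mul, map_mul]
  change μ d * μ r * algebraMap B KB s = μ d * μ c * x * algebraMap B KB s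
  rw [mul_assoc _ x, hbs]
  linear_combination h1

/-- The delta invariant is invariant under flat base change with reduced fibres over the maximal
ideals of the normalization. -/
theorem deltaInv_eq' [IsReduced A] (hN : CAlg.IsNagata A) (hdim : ringKrullDim A = 1)
    [IsNoetherianRing B] [Module.FaithfullyFlat A B]
    (hmB : (maximalIdeal A).map (algebraMap A B) = maximalIdeal B)
    (hred : ∀ P : Ideal A', P.IsMaximal → IsReduced (B ⊗[A] (A' ⧸ P))) :
    Curv2.deltaInv B = Curv2.deltaInv A := by
  haveI : IsNoetherianRing A := hN.1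
  obtain ⟨μ, hinj⟩ := exists_embedding A B
  let R := B ⊗[A] A'
  let KB := FractionRing B
  have hrange : μ.range = integralClosure B KB :=
    range_eq_integralClosure A B hN hdim hmB hred μ hinj
  let e : R ≃ₐ[B] integralClosure B KB :=
    (AlgEquiv.ofInjective μ hinj).trans (Subalgebra.equivOfEq _ _ hrange)
  have hmapR : (LinearMap.range (Algebra.linearMap B R)).map (e.toLinearEquiv : R →ₗ[B] integralClosure B KB) =
      LinearMap.range (Algebra.linearMap B (integralClosure B KB)) := by
    rw [← LinearMap.range_comp]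
    congr 1
    exact LinearMap.ext fun b => e.commutes b
  have hmtop : (maximalIdeal A).map (algebraMap A B) • (⊤ : Submodule B B) = maximalIdeal B := by
    rw [hmB, smul_eq_mul, Ideal.mul_top]
  haveI hsimple : IsSimpleModule B (B ⧸ maximalIdeal B) :=
    isSimpleModule_iff_quot_maximal.mpr ⟨_, maximalIdeal.isMaximal B, ⟨LinearEquiv.refl _ _⟩⟩
  have hone : Module.length B (B ⧸ ((maximalIdeal A).map (algebraMap A B) • (⊤ : Submodule B B))) = 1 := by
    rw [(Submodule.quotEquivOfEq _ _ hmtop).length_eq]
    exact Module.length_eq_one_iff.mpr hsimple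
  have hfl : IsFiniteLength B (B ⧸ ((maximalIdeal A).map (algebraMap A B) • (⊤ : Submodule B B))) :=
    Module.length_ne_top_iff.mp (by rw [hone]; simp)
  have h := length_quot A B hfl
  rw [hone, mul_one] at h
  rw [← h]
  exact (Submodule.Quotient.equiv _ _ e.toLinearEquiv hmapR).length_eq.symm

/-- The delta invariant is invariant under such base changes. -/
theorem deltaInv_eq [IsReduced A] (hN : CAlg.IsNagata A) (hdim : ringKrullDim A = 1)
    [IsNoetherianRing B] [Module.FaithfullyFlat A B]
    (hmB : (maximalIdeal A).map (algebraMap A B) = maximalIdeal B)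
    [Algebra.IsSeparable (ResidueField A) (ResidueField B)] :
    Curv2.deltaInv B = Curv2.deltaInv A :=
  deltaInv_eq' A B hN hdim hmB fun P hP =>
    haveI := hP
    isReduced_tensor_residue hmB P
      (IsLocalRing.eq_maximalIdeal (Ideal.isMaximal_comap_of_isIntegral_of_isMaximal P))

end

end Groth.Agent.H06DeltaBC
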