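import Mathlib
import Groth.Prelude.Def_Curv2
import Groth.Agent.H06DeltaBC.Main
import Groth.Agent.H22Alg.GeomReducedAt
import Groth.Agent.H8Props.Generic

/-!
Local rings of a base change to a field extension as localisations of tensor products.
-/

set_option autoImplicit false
set_option linter.style.haveILetI false
universe u

open IsLocalRing TensorProduct nonZeroDivisors CategoryTheory CategoryTheory.Limits AlgebraicGeometry

namespace Groth.Agent.H06DeltaBC

section

variable (k K A B : Type u) [Field k] [Field K] [Algebra k K] [CommRing A] [Algebra k A]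
  [CommRing B] [Algebra A B] [Algebra (A ⊗[k] K) B] [IsScalarTower A (A ⊗[k] K) B]

/-- If `B` is a localisation of `A ⊗ K` then `B ⊗_A F` is reduced when `F ⊗ K` is. -/
theorem isReduced_tensor_localization (M : Submonoid (A ⊗[k] K)) [IsLocalization M B]
    (F : Type u) [CommRing F] [Algebra A F] [Algebra k F] [IsScalarTower k A F]
    [IsReduced (F ⊗[k] K)] : IsReduced (B ⊗[A] F) := by
  let a : A ⊗[k] K →+* F ⊗[k] K :=
    (Algebra.TensorProduct.map (IsScalarTower.toAlgHom k A F) (AlgHom.id k K)).toRingHom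
  let N := M.map a.toMonoidHom
  let L := Localization N
  haveI : IsReduced L := isReduced_localizationPreserves N L inferInstance
  let l : F ⊗[k] K →+* L := algebraMap _ L
  have hu : ∀ m : M, IsUnit ((l.comp a) m) := fun m =>
    IsLocalization.map_units L (⟨_, m.1, m.2, rfl⟩ : N)
  let φB : B →+* L := IsLocalization.lift hu
  have hφB : ∀ s, φB (algebraMap _ B s) = l (a s) := fun s => IsLocalization.lift_eq hu s
  let φB' : B →ₐ[A] L :=
    { φB with commutes' := fun c => by
                show φB (algebraMap A B c) = _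
                rw [IsScalarTower.algebraMap_apply A (A ⊗[k] K) B, hφB, IsScalarTower.algebraMap_apply A (F ⊗[k] K) L]
                rfl }
  let φF : F →ₐ[A] L :=
    { l.comp (Algebra.TensorProduct.includeLeftRingHom : F →+* F ⊗[k] K) with
      commutes' := fun c => by
        rw [IsScalarTower.algebraMap_apply A (F ⊗[k] K) L]
        rfl }
  let φ : B ⊗[A] F →ₐ[A] L := Algebra.TensorProduct.lift φB' φF fun _ _ => Commute.all _ _
  -- the inverse
  let h : F →+* B ⊗[A] F := Algebra.TensorProduct.includeRight.toRingHom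
  letI : Algebra k (B ⊗[A] F) := (h.comp (algebraMap k F)).toAlgebra
  let g : K →+* B ⊗[A] F :=
    (Algebra.TensorProduct.includeLeftRingHom.comp (algebraMap (A ⊗[k] K) B)).comp
      (Algebra.TensorProduct.includeRight : K →ₐ[k] A ⊗[k] K).toRingHom
  let g' : K →ₐ[k] B ⊗[A] F :=
    { g with commutes' := fun c => by
               show algebraMap (A ⊗[k] K) B ((1 : A) ⊗ₜ algebraMap k K c) ⊗ₜ[A] (1 : F) =
                 (1 : B) ⊗ₜ[A] algebraMap k F c
               rw [Algebra.algebraMap_eq_smul_one (A := K), ← TensorProduct.smul_tmul,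
                 ← Algebra.algebraMap_eq_smul_one, IsScalarTower.algebraMap_apply k A F]
               change algebraMap (A ⊗[k] K) B (algebraMap A (A ⊗[k] K) (algebraMap k A c)) ⊗ₜ[A] _ = _
               rw [← IsScalarTower.algebraMap_apply, Algebra.algebraMap_eq_smul_one (R := A),
                 Algebra.algebraMap_eq_smul_one (R := A) (A := F), TensorProduct.smul_tmul] }
  let h' : F →ₐ[k] B ⊗[A] F := { h with commutes' := fun _ => rfl }
  let ψ₀ : F ⊗[k] K →ₐ[k] B ⊗[A] F := Algebra.TensorProduct.lift h' g' fun _ _ => Commute.all _ _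
  have hψ₀ : ∀ s, ψ₀ (a s) = algebraMap (A ⊗[k] K) B s ⊗ₜ[A] (1 : F) := by
    intro s
    induction s using TensorProduct.induction_on with
    | zero => simp
    | tmul c x =>
      show ψ₀ (algebraMap A F c ⊗ₜ x) = _
      rw [Algebra.TensorProduct.lift_tmul]
      show ((1 : B) ⊗ₜ[A] algebraMap A F c) * (algebraMap (A ⊗[k] K) B ((1 : A) ⊗ₜ x) ⊗ₜ[A] (1 : F)) = _
      rw [Algebra.TensorProduct.tmul_mul_tmul, one_mul, mul_one, Algebra.algebraMap_eq_smul_one (R := A),
        ← TensorProduct.smul_tmul, Algebra.smul_def, IsScalarTower.algebraMap_apply A (A ⊗[k] K) B,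
        ← map_mul, Algebra.TensorProduct.algebraMap_apply, Algebra.algebraMap_self, RingHom.id_apply,
        Algebra.TensorProduct.tmul_mul_tmul, mul_one, one_mul]
    | add x y hx hy => rw [map_add, map_add, hx, hy, map_add, TensorProduct.add_tmul]
  have hu' : ∀ m : N, IsUnit (ψ₀ m) := by
    rintro ⟨_, m, hm, rfl⟩
    show IsUnit (ψ₀ (a m))
    rw [hψ₀]
    exact (IsLocalization.map_units B (⟨m, hm⟩ : M)).map Algebra.TensorProduct.includeLeftRingHom
  let ψ : L →+* B ⊗[A] F := IsLocalization.lift (g := ψ₀.toRingHom) hu'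
  have hψ : ∀ s, ψ (l s) = ψ₀ s := fun s => IsLocalization.lift_eq _ s
  have hB : ψ.comp φB = Algebra.TensorProduct.includeLeftRingHom := by
    refine IsLocalization.ringHom_ext M (RingHom.ext fun s => ?_)
    show ψ (φB (algebraMap _ B s)) = algebraMap _ B s ⊗ₜ 1
    rw [hφB, hψ, hψ₀]
  refine isReduced_of_injective φ (Function.LeftInverse.injective (g := ψ) fun z => ?_)
  induction z using TensorProduct.induction_on with
  | zero => simp
  | tmul b x =>
    rw [Algebra.TensorProduct.lift_tmul, map_mul]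
    show (ψ.comp φB) b * ψ (l (x ⊗ₜ 1)) = _
    rw [hB, hψ, Algebra.TensorProduct.lift_tmul]
    show (b ⊗ₜ[A] (1 : F)) * (((1 : B) ⊗ₜ[A] x) * g 1) = _
    rw [map_one, mul_one, Algebra.TensorProduct.tmul_mul_tmul, mul_one, one_mul]
  | add x y hx hy => rw [map_add, map_add, hx, hy]

end

/-- The fibre of a flat local homomorphism of one-dimensional local rings has finite length. -/
theorem isFiniteLength_fibre (A B : Type u) [CommRing A] [IsLocalRing A] [IsNoetherianRing A]
    [CommRing B] [IsLocalRing B] [IsNoetherianRing B] [Algebra A B] [IsLocalHom (algebraMap A B)]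
    [Module.Flat A B] (hA : ringKrullDim A = 1) (hB : ringKrullDim B = 1) [IsReduced A] :
    IsFiniteLength B (B ⧸ ((maximalIdeal A).map (algebraMap A B) • (⊤ : Submodule B B))) := by
  obtain ⟨t, htm, ht0⟩ := H17.NormalizationDVR.exists_regular A hA
  haveI : Ring.KrullDimLE 1 B := Ring.krullDimLE_iff.mpr hB.le
  let J : Ideal B := (maximalIdeal A).map (algebraMap A B)
  have htB : algebraMap A B t ∈ B⁰ := by
    have h1 : IsSMulRegular A t := fun x y h => by
      simp only [smul_eq_mul] at h
      exact (mul_cancel_left_mem_nonZeroDivisors ht0).mp h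
    have h2 : IsSMulRegular B (algebraMap A B t) := IsSMulRegular.of_flat h1
    exact mem_nonZeroDivisors_iff_right.mpr fun x hx => h2 (show algebraMap A B t • x = algebraMap A B t • 0 by
      rw [smul_zero, smul_eq_mul, mul_comm]
      exact hx)
  haveI : Ring.KrullDimLE 0 (B ⧸ J) := by
    refine Ring.KrullDimLE.mk₀ fun P hP => ?_
    haveI := hP
    haveI : (P.comap (Ideal.Quotient.mk J)).IsPrime := Ideal.IsPrime.comap _
    have ht : algebraMap A B t ∈ P.comap (Ideal.Quotient.mk J) := by
      rw [Ideal.mem_comap, Ideal.Quotient.eq_zero_iff_mem.mpr (Ideal.mem_map_of_mem _ htm)]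
      exact P.zero_mem
    have hmax : (P.comap (Ideal.Quotient.mk J)).IsMaximal := by
      rcases Ring.krullDimLE_one_iff.mp ‹_› (P.comap (Ideal.Quotient.mk J)) inferInstance with h | h
      · exact absurd htB fun h' => Set.disjoint_left.mp
          (Ideal.disjoint_nonZeroDivisors_of_mem_minimalPrimes h) ht h'
      · exact h
    rw [← Ideal.map_comap_of_surjective _ Ideal.Quotient.mk_surjective P]
    exact Ideal.map_eq_top_or_isMaximal_of_surjective _ Ideal.Quotient.mk_surjective hmax |>.resolve_left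
      fun h => hP.ne_top (by rwa [Ideal.map_comap_of_surjective _ Ideal.Quotient.mk_surjective] at h)
  haveI : IsArtinianRing (B ⧸ J) := isArtinianRing_iff_isNoetherianRing_krullDimLE_zero.mpr ⟨inferInstance, inferInstance⟩
  have h : IsFiniteLength B (B ⧸ J) := isFiniteLength_iff_isNoetherian_isArtinian.mpr
    ⟨inferInstance, isArtinian_of_surjective_algebraMap (R := B ⧸ J) Ideal.Quotient.mk_surjective⟩
  exact (Submodule.quotEquivOfEq _ J (by rw [smul_eq_mul, Ideal.mul_top])).symm.isFiniteLength h

/-- If the fibre ring `B ⊗_A κ` is reduced then the maximal ideal of `A` generates that of `B`. -/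
theorem map_maximalIdeal_eq (A B : Type u) [CommRing A] [IsLocalRing A] [IsNoetherianRing A]
    [CommRing B] [IsLocalRing B] [IsNoetherianRing B] [Algebra A B] [IsLocalHom (algebraMap A B)]
    [Module.Flat A B] (hA : ringKrullDim A = 1) (hB : ringKrullDim B = 1) [IsReduced A]
    (hred : IsReduced (B ⊗[A] (A ⧸ maximalIdeal A))) :
    (maximalIdeal A).map (algebraMap A B) = maximalIdeal B := by
  let J : Ideal B := (maximalIdeal A).map (algebraMap A B)
  have hle : J ≤ maximalIdeal B := (IsLocalRing.local_hom_TFAE (algebraMap A B)).out 0 2 |>.mp ‹_›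
  haveI : IsReduced (B ⧸ J) :=
    isReduced_of_injective (Algebra.TensorProduct.quotIdealMapEquivTensorQuot B (maximalIdeal A))
      (AlgEquiv.injective _)
  have hfl := (Submodule.quotEquivOfEq _ J (by rw [smul_eq_mul, Ideal.mul_top])).isFiniteLength
    (isFiniteLength_fibre A B hA hB)
  haveI : IsArtinianRing (B ⧸ J) := isArtinian_of_tower B (isFiniteLength_iff_isNoetherian_isArtinian.mp hfl).2
  haveI : Nontrivial (B ⧸ J) := Ideal.Quotient.nontrivial_iff.mpr
    fun h => (maximalIdeal.isMaximal B).ne_top (top_le_iff.mp (h.symm.le.trans hle))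
  haveI := IsLocalRing.of_surjective' (Ideal.Quotient.mk J) Ideal.Quotient.mk_surjective
  have hJ : J.IsMaximal := Ideal.Quotient.maximal_of_isField J (IsArtinianRing.isField_of_isReduced_of_isLocalRing _)
  exact hJ.eq_of_le (maximalIdeal.isMaximal B).ne_top hle

theorem specMap_eqToHom_fromSpecStalk {Y : Scheme.{u}} {a b : Y} (h : a = b) :
    Spec.map (eqToHom (congrArg Y.presheaf.stalk h)) ≫ Y.fromSpecStalk a = Y.fromSpecStalk b := by
  subst h
  simp

/-- The local ring of `X_K` at `y` is a localisation of `O_{X,x} ⊗ K`. -/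
theorem exists_localization (k : Type u) [Field k] (X : Scheme.{u}) [X.Over (Spec (CommRingCat.of k))]
    (K : Type u) [Field K] [Algebra k K] (y : ↥(Curv2.bc k X K)) :
    letI := Curv2.stalkAlgebra k X (Curv2.bcFst k X K y)
    ∃ (θ : (X.presheaf.stalk (Curv2.bcFst k X K y)) ⊗[k] K →+* (Curv2.bc k X K).presheaf.stalk y)
      (q : Ideal ((X.presheaf.stalk (Curv2.bcFst k X K y)) ⊗[k] K)) (_ : q.IsPrime),
      (letI := θ.toAlgebra; IsLocalization.AtPrime ((Curv2.bc k X K).presheaf.stalk y) q) ∧
      θ.comp Algebra.TensorProduct.includeLeftRingHom = ((Curv2.bcFst k X K).stalkMap y).hom := by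
  letI := Curv2.stalkAlgebra k X (Curv2.bcFst k X K y)
  let g := X ↘ Spec (CommRingCat.of k)
  let σ := Spec.map (CommRingCat.ofHom (algebraMap k K))
  let x : X := Curv2.bcFst k X K y
  let A := X.presheaf.stalk x
  let i : pullback (X.fromSpecStalk x ≫ g) σ ≅ Spec (CommRingCat.of (A ⊗[k] K)) :=
    pullback.congrHom (H22Alg.GeomReducedAt.fromSpecStalk_over k X x) rfl ≪≫ pullbackSpecIso k A K
  let st := H22Alg.GeomReducedAt.stalkBC g σ x
  haveI : IsPreimmersion st :=
    MorphismProperty.of_isPullback (P := @IsPreimmersion) (H22Alg.GeomReducedAt.isPullback_stalkBC g σ x).flip inferInstance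
  haveI : Flat st :=
    MorphismProperty.of_isPullback (P := @Flat) (H22Alg.GeomReducedAt.isPullback_stalkBC g σ x).flip inferInstance
  let j : Spec (CommRingCat.of (A ⊗[k] K)) ⟶ Curv2.bc k X K := i.inv ≫ st
  obtain ⟨e, he⟩ := H22Alg.GeomReducedAt.exists_stalkBC_eq g σ x y rfl
  obtain ⟨w, hw⟩ : ∃ w, j w = y := ⟨i.hom e, by
    rw [← Scheme.Hom.comp_apply, Iso.hom_inv_id_assoc]; exact he⟩
  let inc : X.presheaf.stalk x ⟶ CommRingCat.of (A ⊗[k] K) :=
    CommRingCat.ofHom (Algebra.TensorProduct.includeLeftRingHom : A →+* A ⊗[k] K)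
  have hjπ : j ≫ Curv2.bcFst k X K =
      Spec.map inc ≫ X.fromSpecStalk x := by
    have h2 : i.inv ≫ pullback.fst (X.fromSpecStalk x ≫ g) σ =
        Spec.map inc := by
      rw [Iso.inv_comp_eq]
      refine Eq.trans ?_ (congrArg (i.hom ≫ ·) (pullbackSpecIso_inv_fst k A K))
      simp only [i, Iso.trans_hom, Category.assoc, Iso.hom_inv_id_assoc, pullback.congrHom_hom]
      rw [pullback.map, pullback.lift_fst, Category.comp_id]
    rw [← h2]
    exact (Category.assoc _ _ _).trans ((congrArg (i.inv ≫ ·) (H22Alg.GeomReducedAt.isPullback_stalkBC g σ x).w).trans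
      (Category.assoc _ _ _).symm)
  haveI hiso : IsIso (j.stalkMap w) := by
    refine (ConcreteCategory.isIso_iff_bijective _).mpr ?_
    exact H8Props.bijective_stalkMap_of_flat j w (Flat.stalkMap _ w)
  let tS : CommRingCat.of (A ⊗[k] K) ⟶ (Spec (CommRingCat.of (A ⊗[k] K))).presheaf.stalk w :=
    StructureSheaf.toStalk (A ⊗[k] K) w
  let θ := tS ≫ inv (j.stalkMap w) ≫ eqToHom (congrArg (Curv2.bc k X K).presheaf.stalk hw)
  refine ⟨θ.hom, w.asIdeal, w.isPrime, ?_, ?_⟩
  · letI : Algebra (A ⊗[k] K) ((Spec (CommRingCat.of (A ⊗[k] K))).presheaf.stalk w) :=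
      StructureSheaf.stalkAlgebra (A ⊗[k] K) w
    haveI : IsLocalization.AtPrime ((Spec (CommRingCat.of (A ⊗[k] K))).presheaf.stalk w) w.asIdeal := StructureSheaf.IsLocalization.to_stalk (A ⊗[k] K) w
    letI := θ.hom.toAlgebra
    let E := (inv (j.stalkMap w) ≫ eqToHom (congrArg (Curv2.bc k X K).presheaf.stalk hw))
    exact IsLocalization.isLocalization_of_algEquiv w.asIdeal.primeCompl
      (AlgEquiv.ofRingEquiv (f := (asIso E).commRingCatIsoToRingEquiv) fun _ => rfl)
  · have h1 : Spec.map θ ≫ j = (Curv2.bc k X K).fromSpecStalk y := by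
      simp only [θ, Spec.map_comp, Category.assoc]
      rw [show Spec.map tS = (Spec (CommRingCat.of (A ⊗[k] K))).fromSpecStalk w from (Spec.fromSpecStalk_eq' ..).symm,
        ← Scheme.SpecMap_stalkMap_fromSpecStalk, ← Spec.map_comp_assoc (j.stalkMap w) (inv (j.stalkMap w)),
        show j.stalkMap w ≫ inv (j.stalkMap w) = 𝟙 _ from IsIso.hom_inv_id _, Spec.map_id, Category.id_comp]
      exact specMap_eqToHom_fromSpecStalk hw
    have h3 : inc ≫ θ = (Curv2.bcFst k X K).stalkMap y := by
      refine Spec.map_injective ?_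
      rw [← cancel_mono (X.fromSpecStalk x), Spec.map_comp, Category.assoc, ← hjπ, ← Category.assoc, h1]
      exact (Scheme.SpecMap_stalkMap_fromSpecStalk (Curv2.bcFst k X K)).symm
    exact congrArg CommRingCat.Hom.hom h3

end Groth.Agent.H06DeltaBC
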