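import Mathlib
import Groth.Prelude.Def_Curv2
import Groth.Agent.S0566
import Groth.Agent.H8Props.NagataAffine
import Groth.Agent.H22Alg.BranchNorm

/-!
Residue fields of the normalisation over a point, and Nagata local rings of schemes over a field.
-/

set_option autoImplicit false
set_option linter.style.haveILetI false
universe u

open IsLocalRing TensorProduct CategoryTheory CategoryTheory.Limits AlgebraicGeometry

namespace Groth.Agent.H06DeltaBC

theorem isNagata_field (k : Type u) [Field k] : CAlg.IsNagata k := by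
  refine ⟨inferInstance, fun p hp => ?_⟩
  intro L _ _ _ _ hfin
  have hp' : p.IsMaximal := (Ideal.eq_bot_or_top p).resolve_right hp.ne_top ▸ Ideal.bot_isMaximal
  letI := Ideal.Quotient.field p
  haveI : Module.Finite (k ⧸ p) (FractionRing (k ⧸ p)) :=
    Module.Finite.of_surjective (Algebra.linearMap (k ⧸ p) (FractionRing (k ⧸ p))) fun z => by
      obtain ⟨a, b, hb, rfl⟩ := IsFractionRing.div_surjective (k ⧸ p) z
      exact ⟨a / b, map_div₀ (algebraMap (k ⧸ p) (FractionRing (k ⧸ p))) a b⟩
  haveI : Module.Finite (k ⧸ p) L := Module.Finite.trans (FractionRing (k ⧸ p)) L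
  exact Module.Finite.of_injective (integralClosure (k ⧸ p) L).val.toLinearMap Subtype.val_injective

/-- Local rings of schemes locally of finite type over a field are Nagata. -/
theorem isNagata_stalk (k : Type u) [Field k] {X : Scheme.{u}} (f : X ⟶ Spec (CommRingCat.of k))
    [LocallyOfFiniteType f] (x : X) : CAlg.IsNagata (X.presheaf.stalk x) := by
  obtain ⟨U, hU, hx, -⟩ := exists_isAffineOpen_mem_and_subset (show x ∈ (⊤ : X.Opens) from trivial)
  obtain ⟨φ, hφ⟩ := Spec.map_surjective (hU.fromSpec ≫ f)
  haveI : IsOpenImmersion hU.fromSpec := hU.isOpenImmersion_fromSpec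
  have hft : φ.hom.FiniteType :=
    (HasRingHomProperty.Spec_iff (P := @LocallyOfFiniteType)).mp (by rw [hφ]; infer_instance)
  letI := φ.hom.toAlgebra
  haveI : Algebra.FiniteType k Γ(X, U) := hft
  letI := TopCat.Presheaf.algebra_section_stalk X.presheaf (⟨x, hx⟩ : U)
  haveI := hU.isLocalization_stalk ⟨x, hx⟩
  exact H8Props.NagataAffine.isNagata_of_isLocalization (hU.primeIdealOf ⟨x, hx⟩).asIdeal.primeCompl _
    (Groth.Agent.S0566.result k (isNagata_field k) Γ(X, U))

/-- Geometric reducedness of a field extension, algebraic form. -/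
theorem isGeometricallyReduced_of_geometricallyReduced (k : Type u) [Field k] (R : CommRingCat.{u})
    (φ : k →+* R) [GeometricallyReduced (Spec.map (CommRingCat.ofHom φ))] :
    letI := φ.toAlgebra
    Algebra.IsGeometricallyReduced k R := by
  letI := φ.toAlgebra
  let kb := AlgebraicClosure k
  let g : Spec R ⟶ Spec (CommRingCat.of k) := Spec.map (CommRingCat.ofHom φ)
  let s : Spec (CommRingCat.of kb) ⟶ Spec (CommRingCat.of k) :=
    Spec.map (CommRingCat.ofHom (algebraMap k kb))
  have : IsReduced (pullback g s) :=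
    GeometricallyReduced.geometrically_isReduced _ _ _ (.of_hasPullback g s)
  have : IsReduced (pullback s g) := isReduced_of_isOpenImmersion (pullbackSymmetry s g).hom
  have : IsReduced (Spec (.of (kb ⊗[k] R))) :=
    isReduced_of_isOpenImmersion (pullbackSpecIso k kb R).inv
  rw [Algebra.isGeometricallyReduced_field_iff]
  exact (affine_isReduced_iff _).1 this

/-- The residue field at a maximal ideal of the normalization of a local ring embeds into the residue
field of a point of the normalization of the scheme. -/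
theorem isGeometricallyReduced_quotient (k : Type u) [Field k] (X : Scheme.{u}) [X.Over (Spec (CommRingCat.of k))]
    [IsIntegral X] [QuasiCompact (X.fromSpecStalk (genericPoint X))] [QuasiSeparated (X.fromSpecStalk (genericPoint X))]
    (x : X)
    (hsep : letI : (Curv2.normalization X).Over (Spec (CommRingCat.of k)) :=
        ⟨Curv2.normalizationι X ≫ (X ↘ (Spec (CommRingCat.of k)))⟩
      ∀ x' : ↥(Curv2.normalization X), (Curv2.normalizationι X).base x' = x →
        GeometricallyReduced (Spec.map (CommRingCat.ofHom (Curv2.resMap k (Curv2.normalization X) x'))))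
    (P : Ideal (integralClosure (X.presheaf.stalk x) (FractionRing (X.presheaf.stalk x)))) [P.IsMaximal] :
    letI := Curv2.stalkAlgebra k X x
    Algebra.IsGeometricallyReduced k
      (integralClosure (X.presheaf.stalk x) (FractionRing (X.presheaf.stalk x)) ⧸ P) := by
  letI instN : (Curv2.normalization X).Over (Spec (CommRingCat.of k)) :=
    ⟨Curv2.normalizationι X ≫ (X ↘ (Spec (CommRingCat.of k)))⟩
  obtain ⟨U, hU, hx, -⟩ := exists_isAffineOpen_mem_and_subset (show x ∈ (⊤ : X.Opens) from trivial)
  haveI : Nonempty U := ⟨⟨x, hx⟩⟩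
  haveI := functionField_isFractionRing_of_isAffineOpen X U hU
  haveI : IsIntegralHom (Curv2.normalizationι X) := H22Alg.NormalizationDimOne.isIntegralHom_normalizationι X
  let N := Curv2.normalization X
  let ι := Curv2.normalizationι X
  have hV : IsAffineOpen (ι ⁻¹ᵁ U) := hU.preimage _
  letI := TopCat.Presheaf.algebra_section_stalk X.presheaf (⟨x, hx⟩ : U)
  haveI := hU.isLocalization_stalk ⟨x, hx⟩
  haveI : IsScalarTower Γ(X, U) (X.presheaf.stalk x) X.functionField := functionField_isScalarTower X U ⟨x, hx⟩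
  obtain ⟨φ, hφ⟩ := H22Alg.NormalizationDimOne.exists_obj_iso X hU
  let A := X.presheaf.stalk x
  let L := X.functionField
  let ε : integralClosure A (FractionRing A) ≃ₐ[A] integralClosure A L :=
    (FractionRing.algEquiv A L).mapIntegralClosure
  let p := (hU.primeIdealOf ⟨x, hx⟩).asIdeal
  letI := (H22Alg.BranchNorm.incl (B := Γ(X, U)) (A := A) (L := L)).toAlgebra
  haveI := H22Alg.BranchNorm.isLocalization_integralClosure (L := L) (A := A) p
  let M := Algebra.algebraMapSubmonoid (integralClosure Γ(X, U) L) p.primeCompl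
  let P' : Ideal (integralClosure A L) := P.comap ε.symm.toRingHom
  haveI : P'.IsMaximal := Ideal.comap_isMaximal_of_surjective _ ε.symm.surjective
  let Q : Ideal (integralClosure Γ(X, U) L) := P'.comap (algebraMap _ (integralClosure A L))
  have hcomm : ∀ b : Γ(X, U), algebraMap (integralClosure Γ(X, U) L) (integralClosure A L)
      (algebraMap Γ(X, U) _ b) = algebraMap A (integralClosure A L) (algebraMap Γ(X, U) A b) := fun b =>
    Subtype.ext (IsScalarTower.algebraMap_apply Γ(X, U) A L b)
  have hQp : ∀ b, algebraMap Γ(X, U) _ b ∈ Q ↔ b ∈ p := fun b => by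
    show algebraMap _ (integralClosure A L) (algebraMap Γ(X, U) _ b) ∈ P' ↔ _
    rw [hcomm, ← Ideal.mem_comap,
      eq_maximalIdeal (Ideal.isMaximal_comap_of_isIntegral_of_isMaximal (R := A) P'),
      IsLocalization.AtPrime.to_map_mem_maximal_iff A p]
  let q : PrimeSpectrum Γ(N, ι ⁻¹ᵁ U) := ⟨Q.comap φ.symm.toRingHom, inferInstance⟩
  let y := hV.fromSpec q
  have hy : y ∈ ι ⁻¹ᵁ U := hV.range_fromSpec.le ⟨q, rfl⟩
  have hq : hV.primeIdealOf ⟨y, hy⟩ = q :=
    hV.fromSpec.isOpenEmbedding.injective (hV.fromSpec_primeIdealOf _)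
  have hev : ∀ w, N.evaluation (ι ⁻¹ᵁ U) y hy (φ w) = 0 ↔ w ∈ Q := fun w => by
    rw [← H22Alg.NormalizationDimOne.mem_primeIdealOf_iff hV hy, hq]
    show φ.symm (φ w) ∈ Q ↔ _
    rw [RingEquiv.symm_apply_apply]
  have hyx : ι.base y = x := by
    have h1 := H22Alg.BranchNorm.comap_primeIdealOf X hU y hy hV
    have h2 : (hU.primeIdealOf ⟨_, hy⟩).asIdeal = p := by
      rw [← h1, hq]
      ext b
      show φ.symm (ι.app U b) ∈ Q ↔ _
      rw [← hφ, RingEquiv.symm_apply_apply]
      exact hQp b
    have h3 := congrArg hU.fromSpec (PrimeSpectrum.ext h2)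
    rwa [hU.fromSpec_primeIdealOf, hU.fromSpec_primeIdealOf] at h3
  let G : integralClosure Γ(X, U) L →+* N.residueField y :=
    (N.evaluation (ι ⁻¹ᵁ U) y hy).hom.comp φ.toRingHom
  have hu : ∀ s : M, IsUnit (G s) := by
    rintro ⟨_, s, hs, rfl⟩
    refine isUnit_iff_ne_zero.mpr fun h => hs ((hQp s).mp ((hev _).mp h))
  let Ĝ : integralClosure A L →+* N.residueField y := IsLocalization.lift hu
  have hker : RingHom.ker Ĝ ≤ P' := by
    rw [← IsLocalization.map_comap M (integralClosure A L) (RingHom.ker Ĝ), Ideal.map_le_iff_le_comap]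
    intro w hw
    have h : Ĝ (algebraMap _ _ w) = 0 := hw
    rw [IsLocalization.lift_eq] at h
    exact (hev w).mp h
  have hker' : P' = RingHom.ker Ĝ := by
    refine le_antisymm ?_ hker
    rw [← IsLocalization.map_comap M (integralClosure A L) P', Ideal.map_le_iff_le_comap]
    intro w hw
    show Ĝ (algebraMap _ _ w) = 0
    rw [IsLocalization.lift_eq]
    exact (hev w).mpr hw
  letI := Curv2.stalkAlgebra k X x
  letI algy : Algebra k (N.residueField y) := (Curv2.resMap k N y).toAlgebra
  haveI := hsep y hyx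
  haveI : Algebra.IsGeometricallyReduced k (N.residueField y) :=
    isGeometricallyReduced_of_geometricallyReduced k (N.residueField y) (Curv2.resMap k N y)
  let h₀ : integralClosure A (FractionRing A) →+* N.residueField y := Ĝ.comp ε.toRingHom
  have hP : P = RingHom.ker h₀ := by
    rw [← RingHom.comap_ker, ← hker']
    ext z
    show z ∈ P ↔ ε.symm (ε z) ∈ P
    rw [AlgEquiv.symm_apply_apply]
  let f : integralClosure A (FractionRing A) ⧸ P →ₐ[k] N.residueField y :=
    { Ideal.Quotient.lift P h₀ (fun z hz => by rw [hP] at hz; exact hz) with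
      commutes' := fun c => by
        show Ĝ (ε (algebraMap A _ (Curv2.stalkMap k X x c))) = Curv2.resMap k N y c
        rw [AlgEquiv.commutes]
        let b : Γ(X, U) := X.presheaf.map (homOfLE le_top).op (Coh.toGlobal (X ↘ Spec (CommRingCat.of k)) c)
        have hb : Curv2.stalkMap k X x c = algebraMap Γ(X, U) A b :=
          (TopCat.Presheaf.germ_res_apply X.presheaf (homOfLE le_top) x hx _).symm
        rw [hb, ← hcomm, IsLocalization.lift_eq]
        show N.evaluation (ι ⁻¹ᵁ U) y hy (φ (algebraMap _ _ b)) = _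
        rw [hφ]
        show N.residue y (N.presheaf.germ (ι ⁻¹ᵁ U) y hy (ι.app U
            (X.presheaf.map (homOfLE le_top).op (Coh.toGlobal (X ↘ Spec (CommRingCat.of k)) c)))) =
          N.residue y (N.presheaf.germ ⊤ y trivial (Coh.toGlobal (ι ≫ (X ↘ Spec (CommRingCat.of k))) c))
        congr 1
        rw [show Coh.toGlobal (ι ≫ (X ↘ Spec (CommRingCat.of k))) c =
            ι.appTop (Coh.toGlobal (X ↘ Spec (CommRingCat.of k)) c) from rfl]
        have hn := RingHom.congr_fun (congrArg CommRingCat.Hom.hom
          (ι.naturality (homOfLE (le_top : U ≤ ⊤)).op)) (Coh.toGlobal (X ↘ Spec (CommRingCat.of k)) c)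
        refine (congrArg (N.presheaf.germ (ι ⁻¹ᵁ U) y hy) hn).trans ?_
        exact TopCat.Presheaf.germ_res_apply N.presheaf _ y hy _ }
  exact Algebra.IsGeometricallyReduced.of_injective f (RingHom.lift_injective_of_ker_le_ideal P _ hP.ge)

end Groth.Agent.H06DeltaBC
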